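import Cfsg.Agent.Lib.AltAut.ThreeCycle
import Cfsg.Agent.EqLemmas

/-!
Overgroups of a Sylow 3-subgroup of an alternating group: unless the degree is `6`, `9` or `3^a + 1`
no proper subgroup contains all of them.
-/

set_option autoImplicit false

namespace Cfsg.Agent.AltMinimal

open Equiv Equiv.Perm MulAction
open Cfsg.Agent.AltAut
open scoped Pointwise

variable {α : Type*} [Fintype α] [DecidableEq α]

/-- An element of `M` sending one point of `B` into `B` sends all of `B` into `B`. -/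
def IsBlk (M : Subgroup (Perm α)) (B : Set α) : Prop :=
  ∀ g ∈ M, ∀ a ∈ B, g a ∈ B → ∀ b ∈ B, g b ∈ B

theorem tri_mem_alternating {a b c : α} (ab : a ≠ b) (ac : a ≠ c) (bc : b ≠ c) :
    tri a b c ∈ alternatingGroup α :=
  (isThreeCycle_tri ab ac bc).mem_alternatingGroup

/-- A block with two points that meets a set carrying all three-cycles contains it. -/
theorem subset_of_tri {M : Subgroup (Perm α)} {B U : Set α} (hB : IsBlk M B)
    (htri : ∀ a ∈ U, ∀ b ∈ U, ∀ c ∈ U, a ≠ b → a ≠ c → b ≠ c → tri a b c ∈ M)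
    (hU : 3 ≤ U.ncard) {a y : α} (haB : a ∈ B) (haU : a ∈ U) (hyB : y ∈ B) (hya : y ≠ a) : U ⊆ B := by
  have key : ∀ u, u ∈ B → u ∈ U → u ≠ a → U ⊆ B := by
    intro u huB huU hua d hd
    by_cases hda : d = a
    · exact hda ▸ haB
    by_cases hdu : d = u
    · exact hdu ▸ huB
    have h := htri a haU u huU d hd (Ne.symm hua) (Ne.symm hda) (Ne.symm hdu)
    have := hB _ h a haB (by rw [tri_apply_fst (Ne.symm hua) (Ne.symm hdu)]; exact huB) u huB
    rwa [tri_apply_snd] at this
  by_cases hyU : y ∈ U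
  · exact key y hyB hyU hya
  obtain ⟨b, hbU, hba⟩ := Set.exists_ne_of_one_lt_ncard (by omega : 1 < U.ncard) a
  obtain ⟨c, hcU, hca, hcb⟩ : ∃ c ∈ U, c ≠ a ∧ c ≠ b := by
    by_contra h
    push Not at h
    have : U ⊆ {a, b} := fun c hc => by
      by_cases e : c = a
      · exact Or.inl e
      · exact Or.inr (h c hc e)
    have := Set.ncard_le_ncard this
    have := Set.ncard_pair (Ne.symm hba)
    omega
  have h := htri a haU b hbU c hcU (Ne.symm hba) (Ne.symm hca) (Ne.symm hcb)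
  have hy : tri a b c y = y :=
    tri_apply_ne hya (fun e => hyU (e ▸ hbU)) (fun e => hyU (e ▸ hcU))
  have := hB _ h y hyB (by rw [hy]; exact hyB) a haB
  rw [tri_apply_fst (Ne.symm hba) (Ne.symm hcb)] at this
  exact key b this hbU hba

/-- A subgroup not containing the alternating group has a proper block containing a given set with all
three-cycles. -/
theorem exists_blk {M : Subgroup (Perm α)} (hM : ¬ alternatingGroup α ≤ M) {U : Set α}
    (htri : ∀ a ∈ U, ∀ b ∈ U, ∀ c ∈ U, a ≠ b → a ≠ c → b ≠ c → tri a b c ∈ M)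
    (hU : 3 ≤ U.ncard) : ∃ B : Set α, IsBlk M B ∧ U ⊆ B ∧ B ≠ Set.univ := by
  obtain ⟨x, hx⟩ := Set.nonempty_of_ncard_ne_zero (by omega : U.ncard ≠ 0)
  obtain ⟨u, hu, hux⟩ := Set.exists_ne_of_one_lt_ncard (by omega : 1 < U.ncard) x
  obtain ⟨w, hw, hwx, hwu⟩ : ∃ w ∈ U, w ≠ x ∧ w ≠ u := by
    by_contra h
    push Not at h
    have : U ⊆ {x, u} := fun c hc => by
      by_cases e : c = x
      · exact Or.inl e
      · exact Or.inr (h c hc e)
    have := Set.ncard_le_ncard this
    have := Set.ncard_pair (Ne.symm hux)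
    omega
  have htm := htri x hx u hu w hw (Ne.symm hux) (Ne.symm hwx) (Ne.symm hwu)
  by_cases htr : IsPretransitive ↥M α
  · have hnp : ¬ IsPreprimitive ↥M α := fun h => hM
      (Equiv.Perm.alternatingGroup_le_of_isPreprimitive_of_isThreeCycle_mem h
        (isThreeCycle_tri (Ne.symm hux) (Ne.symm hwx) (Ne.symm hwu)) htm)
    obtain ⟨B, hB, hne⟩ : ∃ B : Set α, IsBlock ↥M B ∧ ¬ IsTrivialBlock B := by
      by_contra h
      push Not at h
      exact hnp { toIsPretransitive := htr, isTrivialBlock_of_isBlock := fun {B} hB => h B hB }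
    obtain ⟨hns, hnu⟩ := not_or.mp hne
    obtain ⟨y, hy, z, hz, hyz⟩ := Set.not_subsingleton_iff.mp hns
    obtain ⟨g, hg⟩ := exists_smul_eq ↥M y x
    have hBg : IsBlock ↥M (g • B) := hB.translate g
    have hblk : IsBlk M (g • B) := by
      intro h hh a ha hha b hb
      rcases hBg.smul_eq_or_disjoint (⟨h, hh⟩ : ↥M) with e | e
      · rw [← e]; exact ⟨b, hb, rfl⟩
      · exact absurd hha (fun hha => Set.disjoint_left.mp e ⟨a, ha, rfl⟩ hha)
    have hxB : x ∈ g • B := ⟨y, hy, hg⟩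
    refine ⟨g • B, hblk, subset_of_tri hblk htri hU hxB hx ⟨z, hz, rfl⟩ ?_, fun h => hnu ?_⟩
    · intro e
      exact hyz (smul_left_cancel g (hg.trans e.symm))
    · exact Set.eq_univ_of_forall fun a => by
        have : g • a ∈ g • B := h ▸ Set.mem_univ _
        exact Set.smul_mem_smul_set_iff.mp this
  · have hblk : IsBlk M (orbit ↥M x) := fun g hg a _ _ b hb => by
      obtain ⟨k, rfl⟩ := hb
      exact ⟨⟨g, hg⟩ * k, rfl⟩
    refine ⟨orbit ↥M x, hblk, subset_of_tri hblk htri hU (mem_orbit_self x) hx (y := u) ?_ hux, fun h => htr ?_⟩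
    · exact ⟨⟨_, htm⟩, tri_apply_fst (Ne.symm hux) (Ne.symm hwu)⟩
    · refine ⟨fun a b => ?_⟩
      obtain ⟨k, hk⟩ : a ∈ orbit ↥M x := h ▸ Set.mem_univ a
      obtain ⟨l, hl⟩ : b ∈ orbit ↥M x := h ▸ Set.mem_univ b
      refine ⟨l * k⁻¹, ?_⟩
      rw [mul_smul, ← (hk : k • x = a), inv_smul_smul]
      exact hl

/-- The even centraliser of a fixed-point-free element of order three has no proper block with more
than three points. -/
theorem false_of_blk {M : Subgroup (Perm α)} {B : Set α} (hB : IsBlk M B) {z : Perm α} (h3 : z ^ 3 = 1)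
    (hfix : ∀ x, z x ≠ x) (hC : ∀ g ∈ alternatingGroup α, g * z = z * g → g ∈ M)
    (hcard : 4 ≤ B.ncard) (hne : B ≠ Set.univ) : False := by
  have h3' : ∀ x, z (z (z x)) = x := fun x => by
    have := Equiv.congr_fun h3 x
    simpa [pow_succ, Perm.mul_apply] using this
  have hz2 : ∀ x, z (z x) ≠ x := fun x h => hfix x (by
    have := congrArg z h
    rw [h3'] at this
    exact this.symm)
  have hcyc : ∀ x ∈ B, z x ∈ B ∧ z (z x) ∈ B := by
    intro x hx
    obtain ⟨y, hy, hyx⟩ := Set.exists_ne_of_one_lt_ncard (by omega : 1 < B.ncard) x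
    have a1 : x ≠ z x := fun h => hfix x h.symm
    have a2 : x ≠ z (z x) := fun h => hz2 x h.symm
    have a3 : z x ≠ z (z x) := fun h => hfix (z x) h.symm
    have ht : tri x (z x) (z (z x)) * z = z * tri x (z x) (z (z x)) := by
      have := tri_conj z x (z x) (z (z x))
      rw [h3', ← tri_rotate a1 a2 a3] at this
      calc tri x (z x) (z (z x)) * z = z * tri x (z x) (z (z x)) * z⁻¹ * z := by rw [this]
        _ = _ := by group
    have hm := hC _ (tri_mem_alternating a1 a2 a3) ht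
    by_cases hy1 : y = z x
    · subst hy1
      refine ⟨hy, ?_⟩
      have := hB _ hm x hx (by rw [tri_apply_fst a1 a3]; exact hy) _ hy
      rwa [tri_apply_snd] at this
    by_cases hy2 : y = z (z x)
    · subst hy2
      refine ⟨?_, hy⟩
      have := hB _ hm _ hy (by rw [tri_apply_thd a2 a3]; exact hx) x hx
      rwa [tri_apply_fst a1 a3] at this
    have hx' := hB _ hm y hy (by rw [tri_apply_ne hyx hy1 hy2]; exact hy) x hx
    rw [tri_apply_fst a1 a3] at hx'
    have := hB _ hm y hy (by rw [tri_apply_ne hyx hy1 hy2]; exact hy) _ hx'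
    rw [tri_apply_snd] at this
    exact ⟨hx', this⟩
  obtain ⟨x, hx⟩ := Set.nonempty_of_ncard_ne_zero (by omega : B.ncard ≠ 0)
  obtain ⟨y, hy, hy0, hy1, hy2⟩ : ∃ y ∈ B, y ≠ x ∧ y ≠ z x ∧ y ≠ z (z x) := by
    by_contra h
    push Not at h
    have : B ⊆ {x, z x, z (z x)} := fun c hc => by
      by_cases e : c = x
      · exact Or.inl e
      · by_cases e' : c = z x
        · exact Or.inr (Or.inl e')
        · exact Or.inr (Or.inr (h c hc e e'))
    have := Set.ncard_le_ncard this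
    have := Set.ncard_insert_le x ({z x, z (z x)} : Set α)
    have := Set.ncard_insert_le (z x) ({z (z x)} : Set α)
    have := Set.ncard_singleton (z (z x))
    omega
  obtain ⟨w, hw⟩ := (Set.ne_univ_iff_exists_notMem B).mp hne
  have hwB : ∀ u ∈ B, w ≠ u ∧ z w ≠ u ∧ z (z w) ≠ u := by
    intro u hu
    refine ⟨fun e => hw (e ▸ hu), fun e => hw ?_, fun e => hw ?_⟩
    · have := (hcyc u hu).2
      rwa [← e, h3'] at this
    · have := (hcyc u hu).1
      rwa [← e, h3'] at this
  -- the product of the three translates of `(x y w)`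
  have zi := z.injective
  obtain ⟨hx1, hx2⟩ := hcyc x hx
  obtain ⟨hyy1, hyy2⟩ := hcyc y hy
  set t₀ := tri x y w
  set t₁ := tri (z x) (z y) (z w)
  set t₂ := tri (z (z x)) (z (z y)) (z (z w))
  have d₁ : ∀ u, t₁ u ≠ u → u = z x ∨ u = z y ∨ u = z w := fun u hu => by
    by_contra h
    simp only [not_or] at h
    exact hu (tri_apply_ne h.1 h.2.1 h.2.2)
  have xy : x ≠ y := Ne.symm hy0
  have xw : x ≠ w := (hwB x hx).1.symm
  have yw : y ≠ w := (hwB y hy).1.symm
  have c01 : Perm.Disjoint t₀ t₁ := fun u => by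
    by_contra h
    simp only [not_or] at h
    obtain ⟨hu0, hu1⟩ := h
    have h0 : u = x ∨ u = y ∨ u = w := by
      by_contra h
      simp only [not_or] at h
      exact hu0 (tri_apply_ne h.1 h.2.1 h.2.2)
    rcases h0 with rfl | rfl | rfl <;> rcases d₁ _ hu1 with e | e | e
    · exact hfix _ e.symm
    · exact hy2 (zi (e.symm.trans (h3' _).symm))
    · exact (hwB _ hx).2.1 e.symm
    · exact hy1 e
    · exact hfix _ e.symm
    · exact (hwB _ hy).2.1 e.symm
    · exact (hwB _ hx1).1 e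
    · exact (hwB _ hyy1).1 e
    · exact hfix _ e.symm
  have e₁ : z * t₀ * z⁻¹ = t₁ := tri_conj z x y w
  have e₂ : z * t₁ * z⁻¹ = t₂ := tri_conj z _ _ _
  have e₀ : z * t₂ * z⁻¹ = t₀ := by
    rw [tri_conj]
    simp only [t₀, h3']
  have c12 : Perm.Disjoint t₁ t₂ := by
    rw [← e₁, ← e₂]
    exact c01.conj z
  have c20 : Perm.Disjoint t₂ t₀ := by
    rw [← e₂, ← e₀]
    exact c12.conj z
  have hcomm : t₀ * t₁ * t₂ * z = z * (t₀ * t₁ * t₂) := by
    have h : z * (t₀ * t₁ * t₂) * z⁻¹ = t₀ * t₁ * t₂ := by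
      calc z * (t₀ * t₁ * t₂) * z⁻¹ = (z * t₀ * z⁻¹) * (z * t₁ * z⁻¹) * (z * t₂ * z⁻¹) := by group
        _ = t₁ * t₂ * t₀ := by rw [e₁, e₂, e₀]
        _ = t₁ * (t₀ * t₂) := by rw [mul_assoc, c20.commute.eq]
        _ = t₀ * t₁ * t₂ := by rw [← mul_assoc, ← c01.commute.eq]
    calc t₀ * t₁ * t₂ * z = z * (t₀ * t₁ * t₂) * z⁻¹ * z := by rw [h]
      _ = _ := by group
  have hzz : ∀ {a b : α}, a ≠ b → z a ≠ z b := fun h e => h (zi e)
  have hmem := hC _ (mul_mem (mul_mem (tri_mem_alternating xy xw yw)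
    (tri_mem_alternating (hzz xy) (hzz xw) (hzz yw)))
    (tri_mem_alternating (hzz (hzz xy)) (hzz (hzz xw)) (hzz (hzz yw)))) hcomm
  have happ : ∀ u, t₀ u ≠ u → (t₀ * t₁ * t₂) u = t₀ u := by
    intro u hu
    rw [Perm.mul_apply, Perm.mul_apply, ((c20.symm) u).resolve_left hu, (c01 u).resolve_left hu]
  have hxy : (t₀ * t₁ * t₂) x = y := by
    rw [happ x (by rw [tri_apply_fst xy yw]; exact Ne.symm xy), tri_apply_fst xy yw]
  have := hB _ hmem x hx (Set.mem_of_eq_of_mem hxy hy) y hy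
  rw [happ y (by rw [tri_apply_snd]; exact Ne.symm yw), tri_apply_snd] at this
  exact hw this

end Cfsg.Agent.AltMinimal
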