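import Cfsg.Agent.Lib.AltMinimal.Basic
import Cfsg.Agent.Lib.PGroup.Basic

/-!
If a Sylow 3-subgroup of `A_n` lies in a unique maximal subgroup then `n` is `6`, `9` or `3^a + 1`.
-/

set_option autoImplicit false

namespace Cfsg.Agent.AltMinimal

open Equiv Equiv.Perm MulAction
open Cfsg.Agent.AltAut

variable {α : Type*} [Fintype α] [DecidableEq α]

/-- The setwise stabiliser of `O`. -/
def setStab (O : Set α) : Subgroup (Perm α) where
  carrier := {g | ∀ x, g x ∈ O ↔ x ∈ O}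
  one_mem' := fun x => Iff.rfl
  mul_mem' := fun {a b} ha hb x => (ha (b x)).trans (hb x)
  inv_mem' := fun {a} ha x => by
    have := ha (a⁻¹ x)
    simpa using this.symm

/-- The permutations agreeing with elements of `P` on `O` and on its complement separately. -/
def splitSub (P : Subgroup (Perm α)) (O : Set α) (hinv : ∀ g ∈ P, ∀ x, g x ∈ O ↔ x ∈ O) :
    Subgroup (Perm α) where
  carrier := {g | ∃ g₁ ∈ P, ∃ g₂ ∈ P, (∀ x ∈ O, g x = g₁ x) ∧ ∀ x, x ∉ O → g x = g₂ x}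
  one_mem' := ⟨1, one_mem P, 1, one_mem P, fun _ _ => rfl, fun _ _ => rfl⟩
  mul_mem' := fun {a b} ⟨a₁, ha₁, a₂, ha₂, ea, ea'⟩ ⟨b₁, hb₁, b₂, hb₂, eb, eb'⟩ =>
    ⟨a₁ * b₁, mul_mem ha₁ hb₁, a₂ * b₂, mul_mem ha₂ hb₂,
      fun x hx => by
        rw [Perm.mul_apply, Perm.mul_apply, eb x hx]
        exact ea _ ((hinv b₁ hb₁ x).mpr hx),
      fun x hx => by
        rw [Perm.mul_apply, Perm.mul_apply, eb' x hx]
        exact ea' _ (fun h => hx ((hinv b₂ hb₂ x).mp h))⟩
  inv_mem' := fun {a} ⟨a₁, ha₁, a₂, ha₂, ea, ea'⟩ =>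
    ⟨a₁⁻¹, inv_mem ha₁, a₂⁻¹, inv_mem ha₂,
      fun x hx => by
        have h := ea (a₁⁻¹ x) ((hinv _ (inv_mem ha₁) x).mpr hx)
        simp only [Perm.coe_inv, Equiv.apply_symm_apply] at h ⊢
        exact (Equiv.symm_apply_eq a).mpr h.symm,
      fun x hx => by
        have h := ea' (a₂⁻¹ x) (fun h => hx ((hinv _ (inv_mem ha₂) x).mp h))
        simp only [Perm.coe_inv, Equiv.apply_symm_apply] at h ⊢
        exact (Equiv.symm_apply_eq a).mpr h.symm⟩

/-- The hypotheses: `P` is a maximal 3-subgroup of the alternating group and all proper subgroups of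
the alternating group containing it lie in `M`, which does not contain the alternating group. -/
structure Ctx (P M : Subgroup (Perm α)) : Prop where
  le : P ≤ alternatingGroup α
  pgroup : IsPGroup 3 ↥P
  max : ∀ Q : Subgroup (Perm α), Q ≤ alternatingGroup α → IsPGroup 3 ↥Q → P ≤ Q → Q = P
  proper : ¬ alternatingGroup α ≤ M
  unique : ∀ K : Subgroup (Perm α), P ≤ K → K ≤ alternatingGroup α → K ≠ alternatingGroup α → K ≤ M

variable {P M : Subgroup (Perm α)}

theorem mem_alternating_of_pow {g : Perm α} {k : ℕ} (h : g ^ 3 ^ k = 1) : g ∈ alternatingGroup α := by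
  rw [mem_alternatingGroup]
  have h1 := congrArg Perm.sign h
  rw [map_pow, map_one] at h1
  rcases Int.units_eq_one_or (Perm.sign g) with h2 | h2
  · exact h2
  · rw [h2, (Nat.odd_iff.mpr rfl : Odd 3).pow.neg_one_pow] at h1
    exact absurd h1 (by decide)

theorem exists_third (hn : 5 ≤ Fintype.card α) (a c : α) : ∃ d, d ≠ a ∧ d ≠ c := by
  by_contra h
  push Not at h
  have : (Finset.univ : Finset α) ⊆ {a, c} := fun d _ => by
    by_cases e : d = a
    · simp [e]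
    · simp [h d e]
  have := Finset.card_le_card this
  have := Finset.card_le_two (a := a) (b := c)
  rw [Finset.card_univ] at *
  omega

/-- An invariant proper set gives three-cycles on its complement. -/
theorem tri_mem_of_invariant (hc : Ctx P M) (hn : 5 ≤ Fintype.card α) {O : Set α}
    (hinv : ∀ g ∈ P, ∀ x, g x ∈ O ↔ x ∈ O) (hne : O.Nonempty) {a b c : α} (hcO : (Oᶜ).Nonempty)
    (ab : a ≠ b) (ac : a ≠ c) (bc : b ≠ c) (h : (a ∈ O ↔ b ∈ O) ∧ (a ∈ O ↔ c ∈ O)) :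
    tri a b c ∈ M := by
  refine hc.unique (setStab O ⊓ alternatingGroup α) (le_inf (fun g hg => hinv g hg) hc.le) inf_le_right ?_
    ⟨fun x => ?_, tri_mem_alternating ab ac bc⟩
  · intro e
    obtain ⟨u, hu⟩ := hne
    obtain ⟨v, hv⟩ := hcO
    obtain ⟨d, hdu, hdv⟩ := exists_third hn u v
    have huv : u ≠ v := fun e => hv (e ▸ hu)
    have hm := tri_mem_alternating huv (Ne.symm hdu) (Ne.symm hdv)
    rw [← e] at hm
    have := (hm.1 u).mpr hu
    rw [tri_apply_fst huv (Ne.symm hdv)] at this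
    exact hv this
  · by_cases h1 : x = a
    · rw [h1, tri_apply_fst ab bc]; exact h.1.symm
    by_cases h2 : x = b
    · rw [h2, tri_apply_snd]; exact h.2.symm.trans h.1
    by_cases h3 : x = c
    · rw [h3, tri_apply_thd ac bc]; exact h.2
    rw [tri_apply_ne h1 h2 h3]

theorem centralizer_mem (hc : Ctx P M) (hn : 5 ≤ Fintype.card α) {z : Perm α} (hz : z ≠ 1)
    (hP : ∀ g ∈ P, g * z = z * g) {g : Perm α} (hg : g ∈ alternatingGroup α) (hgz : g * z = z * g) :
    g ∈ M := by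
  refine hc.unique (Subgroup.centralizer ({z} : Set (Perm α)) ⊓ alternatingGroup α)
    (le_inf (fun g hg => Subgroup.mem_centralizer_singleton_iff.mpr (hP g hg)) hc.le) inf_le_right ?_
    ⟨Subgroup.mem_centralizer_singleton_iff.mpr hgz, hg⟩
  intro e
  obtain ⟨u, hu⟩ : ∃ u, z u ≠ u := by
    by_contra h
    push Not at h
    exact hz (Equiv.ext h)
  obtain ⟨w, hw⟩ : ∃ w, w ∉ ({u, z u, z (z u)} : Finset α) := by
    by_contra h
    push Not at h
    have : (Finset.univ : Finset α) ⊆ {u, z u, z (z u)} := fun x _ => h x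
    have := Finset.card_le_card this
    have := Finset.card_le_three (a := u) (b := z u) (c := z (z u))
    rw [Finset.card_univ] at *
    omega
  simp only [Finset.mem_insert, Finset.mem_singleton, not_or] at hw
  have hm := tri_mem_alternating (Ne.symm hu) (Ne.symm hw.1) (Ne.symm hw.2.1)
  rw [← e] at hm
  have h1 := Subgroup.mem_centralizer_singleton_iff.mp hm.1
  have h2 := Equiv.congr_fun h1 u
  rw [Perm.mul_apply, Perm.mul_apply, tri_apply_snd, tri_apply_fst (Ne.symm hu) (Ne.symm hw.2.1)] at h2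
  exact hw.2.2 h2

/-- On a nontrivial orbit there is a central element of `P` of order three moving exactly that orbit. -/
theorem exists_central (hc : Ctx P M) {O : Set α} (hinv : ∀ g ∈ P, ∀ x, g x ∈ O ↔ x ∈ O)
    (htr : ∀ x ∈ O, ∀ y ∈ O, ∃ g ∈ P, g x = y) (hO : 1 < O.ncard) :
    ∃ z ∈ P, (∀ g ∈ P, g * z = z * g) ∧ z ^ 3 = 1 ∧ (∀ x ∈ O, z x ≠ x) ∧ ∀ x, x ∉ O → z x = x := by
  classical
  haveI : Fact (Nat.Prime 3) := ⟨by norm_num⟩
  set Q := splitSub P O hinv ⊓ alternatingGroup α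
  have hPQ : P ≤ Q := le_inf (fun g hg => ⟨g, hg, g, hg, fun _ _ => rfl, fun _ _ => rfl⟩) hc.le
  obtain ⟨k, hk⟩ := IsPGroup.iff_card.mp hc.pgroup
  have hpow : ∀ g ∈ P, g ^ 3 ^ k = 1 := fun g hg => by
    have := pow_card_eq_one' (G := ↥P) (x := ⟨g, hg⟩)
    rw [hk] at this
    exact congrArg Subtype.val this
  have hsplit : ∀ g ∈ splitSub P O hinv, g ^ 3 ^ k = 1 := by
    rintro g ⟨g₁, h₁, g₂, h₂, e₁, e₂⟩
    have : ∀ m : ℕ, ∀ x, (x ∈ O → (g ^ m) x = (g₁ ^ m) x) ∧ (x ∉ O → (g ^ m) x = (g₂ ^ m) x) := by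
      intro m
      induction m with
      | zero => exact fun x => ⟨fun _ => rfl, fun _ => rfl⟩
      | succ m ih =>
        refine fun x => ⟨fun hx => ?_, fun hx => ?_⟩
        · rw [pow_succ', pow_succ', Perm.mul_apply, Perm.mul_apply, (ih x).1 hx]
          exact e₁ _ ((hinv _ (pow_mem h₁ m) x).mpr hx)
        · rw [pow_succ', pow_succ', Perm.mul_apply, Perm.mul_apply, (ih x).2 hx]
          exact e₂ _ (fun h => hx ((hinv _ (pow_mem h₂ m) x).mp h))
    refine Equiv.ext fun x => ?_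
    by_cases hx : x ∈ O
    · rw [(this _ x).1 hx, hpow g₁ h₁]
    · rw [(this _ x).2 hx, hpow g₂ h₂]
  have hQ : IsPGroup 3 ↥Q := fun g => ⟨k, Subtype.ext (hsplit _ g.2.1)⟩
  have hQP : Q = P := hc.max Q inf_le_right hQ hPQ
  obtain ⟨x, hx⟩ := Set.nonempty_of_ncard_ne_zero (by omega : O.ncard ≠ 0)
  obtain ⟨y, hy, hyx⟩ := Set.exists_ne_of_one_lt_ncard hO x
  obtain ⟨s, hs, hsx⟩ := htr x hx y hy
  let h : Perm α := Perm.ofSubtype (s.subtypePerm (p := (· ∈ O)) (hinv s hs))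
  have hh : h ∈ splitSub P O hinv :=
    ⟨s, hs, 1, one_mem P, fun u hu => by simp [h, Perm.ofSubtype_apply_of_mem, hu],
      fun u hu => by simp [h, Perm.ofSubtype_apply_of_not_mem, hu]⟩
  have hhP : h ∈ P := hQP ▸ ⟨hh, mem_alternating_of_pow (hsplit h hh)⟩
  let K : Subgroup ↥P :=
    { carrier := {g | ∀ u, u ∉ O → (g : Perm α) u = u}
      one_mem' := fun u _ => rfl
      mul_mem' := fun {a b} ha hb u hu => by
        rw [Subgroup.coe_mul, Perm.mul_apply, hb u hu, ha u hu]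
      inv_mem' := fun {a} ha u hu => by
        rw [InvMemClass.coe_inv, Perm.inv_eq_iff_eq]
        exact (ha u hu).symm }
  haveI : K.Normal := ⟨fun a ha g u hu => by
    simp only [Subgroup.coe_mul, InvMemClass.coe_inv, Perm.mul_apply]
    rw [ha _ (fun h => hu ((hinv _ (inv_mem g.2) u).mp h))]
    simp⟩
  have hK : K ≠ ⊥ := fun e => by
    have : (⟨h, hhP⟩ : ↥P) ∈ K := fun u hu => by simp [h, Perm.ofSubtype_apply_of_not_mem, hu]
    rw [e, Subgroup.mem_bot] at this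
    have := Equiv.congr_fun (congrArg Subtype.val this) x
    simp [h, Perm.ofSubtype_apply_of_mem, hx, hsx] at this
    exact hyx this
  obtain ⟨z, hzK, hzc, hzo⟩ := PGroup.exists_central_order_p hc.pgroup hK
  have hcomm : ∀ g ∈ P, g * (z : Perm α) = z * g := fun g hg =>
    congrArg Subtype.val (Subgroup.mem_center_iff.mp hzc ⟨g, hg⟩)
  refine ⟨z, z.2, hcomm, by rw [← hzo, ← Subgroup.orderOf_coe, pow_orderOf_eq_one], fun u hu hfix => ?_, hzK⟩
  have h1 : (z : Perm α) = 1 := Equiv.ext fun v => by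
    by_cases hv : v ∈ O
    · obtain ⟨g, hg, rfl⟩ := htr u hu v hv
      rw [← Perm.mul_apply, ← hcomm g hg, Perm.mul_apply, hfix, Perm.one_apply]
    · exact hzK v hv
  have := congrArg orderOf h1
  rw [Subgroup.orderOf_coe, hzo, orderOf_one] at this
  norm_num at this

/-- Two disjoint invariant sets with large complements and a further point are impossible. -/
theorem false_of_three (hc : Ctx P M) (hn : 5 ≤ Fintype.card α) {O₁ O₂ : Set α}
    (h₁ : ∀ g ∈ P, ∀ x, g x ∈ O₁ ↔ x ∈ O₁) (h₂ : ∀ g ∈ P, ∀ x, g x ∈ O₂ ↔ x ∈ O₂)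
    {x y w : α} (hx : x ∈ O₁) (hy : y ∈ O₂) (hd : Disjoint O₁ O₂) (hw₁ : w ∉ O₁) (hw₂ : w ∉ O₂)
    (c₁ : 3 ≤ O₁ᶜ.ncard) (c₂ : 3 ≤ O₂ᶜ.ncard) : False := by
  have t : ∀ {O : Set α} {u : α}, (∀ g ∈ P, ∀ x, g x ∈ O ↔ x ∈ O) → u ∈ O → Oᶜ.Nonempty →
      ∀ a ∈ Oᶜ, ∀ b ∈ Oᶜ, ∀ c ∈ Oᶜ, a ≠ b → a ≠ c → b ≠ c → tri a b c ∈ M :=
    fun hi hu hne a ha b hb c hcc ab ac bc => tri_mem_of_invariant hc hn hi ⟨_, hu⟩ hne ab ac bc
      ⟨⟨fun h => absurd h ha, fun h => absurd h hb⟩, ⟨fun h => absurd h ha, fun h => absurd h hcc⟩⟩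
  obtain ⟨B, hB, hU, hne⟩ := exists_blk hc.proper (t h₁ hx ⟨w, hw₁⟩) c₁
  have hwy : y ≠ w := fun e => hw₂ (e ▸ hy)
  have hU₂ := subset_of_tri hB (t h₂ hy ⟨w, hw₂⟩) c₂ (hU hw₁) hw₂
    (hU (fun h => Set.disjoint_left.mp hd h hy)) hwy
  exact hne (Set.eq_univ_of_forall fun u => by
    by_cases h : u ∈ O₂
    · exact hU (fun h' => Set.disjoint_left.mp hd h' h)
    · exact hU₂ h)

theorem orbit_inv (x : α) : ∀ g ∈ P, ∀ u, g u ∈ orbit ↥P x ↔ u ∈ orbit ↥P x := fun g hg u =>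
  mem_orbit_iff_of_smul (⟨g, hg⟩ : ↥P) u x
where
  mem_orbit_iff_of_smul (g : ↥P) (u x : α) : g • u ∈ orbit ↥P x ↔ u ∈ orbit ↥P x := by
    rw [← orbit_eq_iff, ← orbit_eq_iff, orbit_smul]

theorem orbit_trans (x : α) : ∀ a ∈ orbit ↥P x, ∀ b ∈ orbit ↥P x, ∃ g ∈ P, g a = b := by
  rintro a ⟨g, rfl⟩ b ⟨h, rfl⟩
  refine ⟨_, (h * g⁻¹).2, ?_⟩
  change (h * g⁻¹) • (g • x) = h • x
  rw [mul_smul, inv_smul_smul]

theorem card_orbit (hc : Ctx P M) (x : α) : ∃ a : ℕ, (orbit ↥P x).ncard = 3 ^ a := by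
  haveI : Fact (Nat.Prime 3) := ⟨by norm_num⟩
  obtain ⟨a, ha⟩ := hc.pgroup.card_orbit x
  exact ⟨a, by rw [← Nat.card_coe_set_eq, ha]⟩

/-- The degree when `P` is transitive. -/
theorem false_of_transitive (hc : Ctx P M) (hn : 5 ≤ Fintype.card α) {x : α}
    (hO : orbit ↥P x = Set.univ) (a : ℕ) (ha : Fintype.card α = 3 ^ (a + 3)) : False := by
  haveI : Fact (Nat.Prime 3) := ⟨by norm_num⟩
  have hnc : (Set.univ : Set α).ncard = 3 ^ (a + 3) := by rw [Set.ncard_univ, Nat.card_eq_fintype_card, ha]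
  have hst : stabilizer ↥P x ≠ ⊤ := by
    intro e
    have hidx := index_stabilizer ↥P x
    rw [e, Subgroup.index_top, hO, hnc] at hidx
    exact absurd hidx.symm (Nat.one_lt_pow (by omega) (by norm_num)).ne'
  obtain ⟨R, hR, hle⟩ := (eq_top_or_exists_le_coatom (stabilizer ↥P x)).resolve_left hst
  haveI hRn : R.Normal := PGroup.isCoatom_normal hc.pgroup hR
  have hRi : R.index = 3 := PGroup.isCoatom_index hc.pgroup hR
  let B₁ : Set α := orbit ↥R x
  have hcardB : B₁.ncard * 3 = 3 ^ (a + 3) := by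
    have h1 : B₁.ncard = (stabilizer ↥R x).index := (index_stabilizer ↥R x).symm
    have h2 : stabilizer ↥R x = (stabilizer ↥P x).subgroupOf R := by
      ext r; rfl
    have h3 := Subgroup.relIndex_mul_index hle
    rw [hRi, index_stabilizer ↥P x, hO, hnc] at h3
    rw [h1, h2]
    exact h3
  have hB9 : 9 ≤ B₁.ncard := by
    have : 27 ≤ 3 ^ (a + 3) := le_trans (by norm_num) (Nat.pow_le_pow_right (by norm_num) (Nat.le_add_left 3 a))
    omega
  -- permutations respecting the `R`-orbits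
  let W : Subgroup (Perm α) :=
    { carrier := {g | ∀ u v, g u ∈ orbit ↥R (g v) ↔ u ∈ orbit ↥R v}
      one_mem' := fun u v => Iff.rfl
      mul_mem' := fun {g h} hg hh u v => (hg (h u) (h v)).trans (hh u v)
      inv_mem' := fun {g} hg u v => by
        have := hg (g⁻¹ u) (g⁻¹ v)
        simpa using this.symm }
  have hsym : ∀ u v : α, u ∈ orbit ↥R v → v ∈ orbit ↥R u := fun u v h => mem_orbit_symm.mp h
  have htrn : ∀ u v w : α, u ∈ orbit ↥R v → v ∈ orbit ↥R w → u ∈ orbit ↥R w := fun u v w h h' => by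
    rw [← orbit_eq_iff] at h'
    exact h' ▸ h
  have hfwd : ∀ g : ↥P, ∀ u v : α, u ∈ orbit ↥R v → (g : Perm α) u ∈ orbit ↥R ((g : Perm α) v) := by
    rintro g u v ⟨r, rfl⟩
    refine ⟨⟨g * r * g⁻¹, hRn.conj_mem _ r.2 g⟩, ?_⟩
    change (g * (r : ↥P) * g⁻¹) • (g • v) = g • ((r : ↥P) • v)
    rw [mul_smul, inv_smul_smul, mul_smul]
  have hPW : P ≤ W := fun g hg u v => ⟨fun h => by
    have := hfwd ⟨g⁻¹, inv_mem hg⟩ _ _ h
    simpa using this, hfwd ⟨g, hg⟩ u v⟩
  obtain ⟨b, hb, hbx⟩ := Set.exists_ne_of_one_lt_ncard (by omega : 1 < B₁.ncard) x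
  have hB₁ne : B₁ ≠ Set.univ := fun e => by
    rw [e, hnc] at hcardB
    have : 0 < 3 ^ (a + 3) := by positivity
    omega
  obtain ⟨c, hcB⟩ := (Set.ne_univ_iff_exists_notMem B₁).mp hB₁ne
  have hbc : b ≠ c := fun e => hcB (e ▸ hb)
  have hxc : x ≠ c := fun e => hcB (e ▸ mem_orbit_self x)
  have htri : ∀ p ∈ B₁, ∀ q ∈ B₁, ∀ r ∈ B₁, p ≠ q → p ≠ r → q ≠ r → tri p q r ∈ M := by
    intro p hp q hq r hr pq pr qr
    refine hc.unique (W ⊓ alternatingGroup α) (le_inf hPW hc.le) inf_le_right ?_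
      ⟨?_, tri_mem_alternating pq pr qr⟩
    · intro e
      have hm := tri_mem_alternating (Ne.symm hbx) hxc hbc
      rw [← e] at hm
      have := (hm.1 b x).mpr hb
      rw [tri_apply_snd, tri_apply_fst (Ne.symm hbx) hbc] at this
      exact hcB (htrn _ _ _ this hb)
    · have hfix : ∀ u, tri p q r u ∈ orbit ↥R u := fun u => by
        by_cases h1 : u = p
        · subst h1; rw [tri_apply_fst pq qr]; exact htrn _ _ _ hq (hsym _ _ hp)
        by_cases h2 : u = q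
        · subst h2; rw [tri_apply_snd]; exact htrn _ _ _ hr (hsym _ _ hq)
        by_cases h3 : u = r
        · subst h3; rw [tri_apply_thd pr qr]; exact htrn _ _ _ hp (hsym _ _ hr)
        rw [tri_apply_ne h1 h2 h3]; exact mem_orbit_self u
      exact fun u v => ⟨fun h => htrn _ _ _ (hsym _ _ (hfix u)) (htrn _ _ _ h (hfix v)),
        fun h => htrn _ _ _ (hfix u) (htrn _ _ _ h (hsym _ _ (hfix v)))⟩
  obtain ⟨B, hB, hU, hne⟩ := exists_blk hc.proper htri (by omega)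
  obtain ⟨z, -, hcomm, hz3, hmove, -⟩ := exists_central hc (orbit_inv x) (orbit_trans x) (by rw [hO, hnc]; exact Nat.one_lt_pow (by omega) (by norm_num))
  have hfix : ∀ u, z u ≠ u := fun u => hmove u (hO ▸ Set.mem_univ u)
  exact false_of_blk hB hz3 hfix (fun g hg hgz => centralizer_mem hc hn
    (fun e => hfix x (by rw [e, Perm.one_apply])) hcomm hg hgz)
    ((by omega : 4 ≤ B₁.ncard).trans (Set.ncard_le_ncard hU)) hne

/-- Two orbits, both nontrivial and one of length at least nine, are impossible. -/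
theorem false_of_two (hc : Ctx P M) (hn : 5 ≤ Fintype.card α) {x y : α}
    (hun : ∀ u, u ∈ orbit ↥P x ∨ u ∈ orbit ↥P y) (hyx : y ∉ orbit ↥P x)
    (hx : 1 < (orbit ↥P x).ncard) (hy : 4 ≤ (orbit ↥P y).ncard) : False := by
  have hdis : ∀ u, u ∈ orbit ↥P y → u ∉ orbit ↥P x := fun u h h' =>
    hyx (by rw [← orbit_eq_iff] at h h' ⊢; exact h.symm.trans h')
  obtain ⟨B, hB, hU, hne⟩ := exists_blk hc.proper (U := orbit ↥P y)
    (fun a ha b hb c hcc ab ac bc => tri_mem_of_invariant hc hn (orbit_inv y) ⟨y, mem_orbit_self y⟩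
      ⟨x, fun h => hdis x h (mem_orbit_self x)⟩ ab ac bc
      ⟨⟨fun _ => hb, fun _ => ha⟩, ⟨fun _ => hcc, fun _ => ha⟩⟩) (by omega)
  obtain ⟨z₁, -, hc₁, hp₁, hm₁, hf₁⟩ := exists_central hc (orbit_inv x) (orbit_trans x) hx
  obtain ⟨z₂, hz₂P, hc₂, hp₂, hm₂, hf₂⟩ := exists_central hc (orbit_inv y) (orbit_trans y) (by omega)
  have hcc : Commute z₁ z₂ := (hc₁ z₂ hz₂P).symm
  have hfix : ∀ u, (z₁ * z₂) u ≠ u := by
    intro u
    rw [Perm.mul_apply]
    rcases hun u with h | h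
    · rw [hf₂ u (fun h' => hdis u h' h)]
      exact hm₁ u h
    · rw [hf₁ _ (hdis _ ((orbit_inv y z₂ hz₂P u).mpr h))]
      exact hm₂ u h
  refine false_of_blk hB (z := z₁ * z₂) ?_ hfix (fun g hg hgz => centralizer_mem hc hn
    (fun e => hfix x (by rw [e, Perm.one_apply])) ?_ hg hgz) (hy.trans (Set.ncard_le_ncard hU)) hne
  · rw [hcc.mul_pow, hp₁, hp₂, one_mul]
  · intro g hg
    exact (Commute.mul_right (hc₁ g hg : Commute g z₁) (hc₂ g hg : Commute g z₂)).eq

/-- The degrees for which the Sylow 3-subgroup lies in a unique maximal subgroup. -/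
theorem degree (hc : Ctx P M) (hn : 5 ≤ Fintype.card α) :
    Fintype.card α = 6 ∨ Fintype.card α = 9 ∨ ∃ a : ℕ, 2 ≤ a ∧ Fintype.card α = 3 ^ a + 1 := by
  haveI : Nonempty α := Fintype.card_pos_iff.mp (by omega)
  obtain ⟨x⟩ := ‹Nonempty α›
  set n := Fintype.card α
  have htot : ∀ s : Set α, s.ncard + sᶜ.ncard = n := fun s => by
    rw [Set.ncard_add_ncard_compl, Nat.card_eq_fintype_card]
  by_cases hO : orbit ↥P x = Set.univ
  · obtain ⟨a, ha⟩ := card_orbit hc x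
    rw [hO, Set.ncard_univ, Nat.card_eq_fintype_card] at ha
    match a, ha with
    | 0, ha => norm_num at ha; omega
    | 1, ha => norm_num at ha; omega
    | 2, ha => exact Or.inr (Or.inl (by simpa using ha))
    | a + 3, ha => exact (false_of_transitive hc hn hO a ha).elim
  obtain ⟨y, hy⟩ := (Set.ne_univ_iff_exists_notMem _).mp hO
  have hdis : ∀ {u v : α}, v ∉ orbit ↥P u → Disjoint (orbit ↥P u) (orbit ↥P v) := fun {u v} h =>
    Set.disjoint_left.mpr fun w h1 h2 => h (by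
      rw [← orbit_eq_iff] at h1 h2 ⊢; exact h2.symm.trans h1)
  by_cases hthree : ∃ w, w ∉ orbit ↥P x ∧ w ∉ orbit ↥P y
  · exfalso
    obtain ⟨w, hwx, hwy⟩ := hthree
    have hxy := hdis hy
    have hxw := hdis hwx
    have hyw := hdis hwy
    have s₁ : (orbit ↥P x ∪ orbit ↥P y).ncard = (orbit ↥P x).ncard + (orbit ↥P y).ncard :=
      Set.ncard_union_eq hxy
    have s₂ : (orbit ↥P x ∪ orbit ↥P y ∪ orbit ↥P w).ncard ≤ n := by
      rw [← htot Set.univ, Set.compl_univ, Set.ncard_empty, add_zero]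
      exact Set.ncard_le_ncard (Set.subset_univ _)
    rw [Set.ncard_union_eq (Set.disjoint_union_left.mpr ⟨hxw, hyw⟩), s₁] at s₂
    have px : 0 < (orbit ↥P x).ncard := (Set.ncard_pos).mpr ⟨x, mem_orbit_self x⟩
    have py : 0 < (orbit ↥P y).ncard := (Set.ncard_pos).mpr ⟨y, mem_orbit_self y⟩
    have pw : 0 < (orbit ↥P w).ncard := (Set.ncard_pos).mpr ⟨w, mem_orbit_self w⟩
    have tx := htot (orbit ↥P x)
    have ty := htot (orbit ↥P y)
    have tw := htot (orbit ↥P w)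
    have hxx := mem_orbit_self (M := ↥P) x
    have hyy := mem_orbit_self (M := ↥P) y
    have hww := mem_orbit_self (M := ↥P) w
    by_cases cx : 3 ≤ (orbit ↥P x)ᶜ.ncard
    · by_cases cy : 3 ≤ (orbit ↥P y)ᶜ.ncard
      · exact false_of_three hc hn (orbit_inv x) (orbit_inv y) hxx hyy hxy hwx hwy cx cy
      · exact false_of_three hc hn (orbit_inv x) (orbit_inv w) hxx hww hxw hy
          (fun h => Set.disjoint_left.mp hyw hyy h) cx (by omega)
    · exact false_of_three hc hn (orbit_inv y) (orbit_inv w) hyy hww hyw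
        (fun h => Set.disjoint_left.mp hxy hxx h) (fun h => Set.disjoint_left.mp hxw hxx h)
        (by omega) (by omega)
  push Not at hthree
  have hun : ∀ u, u ∈ orbit ↥P x ∨ u ∈ orbit ↥P y := fun u => or_iff_not_imp_left.mpr (hthree u)
  have hsum : (orbit ↥P x).ncard + (orbit ↥P y).ncard = n := by
    rw [← Set.ncard_union_eq (hdis hy), show n = (Set.univ : Set α).ncard by rw [Set.ncard_univ, Nat.card_eq_fintype_card]]
    congr 1
    exact Set.eq_univ_of_forall hun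
  obtain ⟨a, ha⟩ := card_orbit hc x
  obtain ⟨b, hb⟩ := card_orbit hc y
  have key : ∀ {x y : α} {a b : ℕ}, (∀ u, u ∈ orbit ↥P x ∨ u ∈ orbit ↥P y) → y ∉ orbit ↥P x →
      (orbit ↥P x).ncard = 3 ^ a → (orbit ↥P y).ncard = 3 ^ b → a ≤ b → 3 ^ a + 3 ^ b = n →
      n = 6 ∨ n = 9 ∨ ∃ a : ℕ, 2 ≤ a ∧ n = 3 ^ a + 1 := by
    intro x y a b hun hy ha hb hab hsum
    match a, b with
    | 0, 0 => norm_num at hsum; omega
    | 0, 1 => norm_num at hsum; omega
    | 0, b + 2 => exact Or.inr (Or.inr ⟨b + 2, by omega, by rw [← hsum, pow_zero, add_comm]⟩)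
    | a + 1, 0 => omega
    | a + 1, 1 =>
      obtain rfl : a = 0 := by omega
      exact Or.inl (by rw [← hsum]; norm_num)
    | a + 1, b + 2 =>
      refine (false_of_two hc hn hun hy ?_ ?_).elim
      · rw [ha]; exact Nat.one_lt_pow (by omega) (by norm_num)
      · rw [hb]; exact le_trans (by norm_num : (4 : ℕ) ≤ 3 ^ 2) (Nat.pow_le_pow_right (by norm_num) (by omega))
  rw [ha, hb] at hsum
  rcases le_total a b with h | h
  · exact key hun hy ha hb h hsum
  · exact key (fun u => (hun u).symm) (fun h' => hy (mem_orbit_symm.mp h')) hb ha h (by rw [add_comm]; exact hsum)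

end Cfsg.Agent.AltMinimal
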